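import Mathlib
import Groth.Prelude.Def_Found
import Groth.Agent.SymGr.RegLoc
import Groth.Agent.FSAdic.Discrete
import Groth.Agent.CAlgAndre.Basic
import Groth.Agent.S9408

/-!
# Smoothness and geometrically regular fibres
-/

set_option autoImplicit false
universe u

open TensorProduct IsLocalRing

namespace Groth.Agent.CAlgSmFib

/-- A geometrically regular algebra of finite type over a field is smooth. -/
theorem smooth_of_isGeometricallyRegular (K W : Type u) [Field K] [CommRing W] [Algebra K W]
    [Algebra.FiniteType K W] (h : CAlg.IsGeometricallyRegular K W) : Algebra.Smooth K W := by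
  haveI : IsNoetherianRing W := Algebra.FiniteType.isNoetherianRing K W
  haveI : Algebra.FinitePresentation K W := Algebra.FinitePresentation.of_finiteType.1 inferInstance
  refine ⟨Algebra.smoothLocus_eq_univ_iff.mp (Set.eq_univ_iff_forall.mpr fun P => ?_), inferInstance⟩
  show Algebra.FormallySmooth K (Localization.AtPrime P.asIdeal)
  let WP := Localization.AtPrime P.asIdeal
  haveI : IsNoetherianRing WP := IsLocalization.isNoetherianRing P.asIdeal.primeCompl _ inferInstance
  haveI : IsLocalHom (algebraMap K WP) := ⟨fun a ha => isUnit_iff_ne_zero.2 fun h0 => by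
    rw [h0, map_zero] at ha; exact not_isUnit_zero ha⟩
  haveI : Algebra.EssFiniteType W WP := Algebra.EssFiniteType.of_isLocalization WP P.asIdeal.primeCompl
  haveI : Algebra.EssFiniteType K WP := Algebra.EssFiniteType.comp K W WP
  have h1 : CAlg.IsGeometricallyRegular K WP :=
    SymGr.isGeometricallyRegular_of_isLocalization P.asIdeal.primeCompl h
  exact FSAdicDiscrete.formallySmooth_of_isFormallySmoothAdic K WP
    (CAlgAndre.adic_of_discrete (SymGr.isAdicFormallySmooth_of_isGeometricallyRegular h1))

/-- A smooth algebra over a field is geometrically regular. -/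
theorem isGeometricallyRegular_of_smooth (K W : Type u) [Field K] [CommRing W] [Algebra K W]
    [Algebra.Smooth K W] : CAlg.IsGeometricallyRegular K W := by
  refine Groth.Agent.S9408.result K K W ?_
  intro L _ _ _
  exact IsRegularRing.of_ringEquiv (R := L) (Algebra.TensorProduct.rid K K L).symm.toRingEquiv

/-- A finitely presented algebra is smooth iff it is flat with geometrically regular fibres. -/
theorem smooth_iff_flat_and_fibres (A B : Type u) [CommRing A] [CommRing B]
    [Algebra A B] [Algebra.FinitePresentation A B] :
    Algebra.Smooth A B ↔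
      Module.Flat A B ∧ ∀ (p : Ideal A) [p.IsPrime], CAlg.IsGeometricallyRegular p.ResidueField (p.Fiber B) := by
  refine ⟨fun h => ⟨inferInstance, fun p _ => isGeometricallyRegular_of_smooth _ _⟩, fun ⟨hf, hg⟩ => ?_⟩
  refine Algebra.Smooth.of_formallySmooth_fiber fun p _ => ?_
  haveI := smooth_of_isGeometricallyRegular p.ResidueField (p.Fiber B) (hg p)
  exact inferInstance

end Groth.Agent.CAlgSmFib
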